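import Cfsg.Agent.H700.DM.Defs
import Cfsg.Agent.S2100
import Cfsg.Agent.S2101
import Cfsg.Agent.S2102
import Cfsg.Agent.S2103
import Cfsg.Agent.S2104
import Cfsg.Agent.S2105
import Cfsg.Agent.S2106
import Cfsg.Agent.S2107
import Cfsg.Agent.S2108
import Cfsg.Agent.S2109
import Cfsg.Agent.S2110
import Cfsg.Agent.S2111
import Cfsg.Agent.S2112
import Cfsg.Agent.S2113
import Cfsg.Agent.S2114
import Cfsg.Agent.S2116
import Cfsg.Agent.S0892

/-!
# S4907, DM16: the centre of a quasisimple group with exceptional or alternating central quotient (helper288)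
-/

set_option autoImplicit false
set_option linter.unusedSectionVars false

namespace Cfsg.Agent.H288.DM

open Cfsg Cfsg.Lie Cfsg.Agent Cfsg.Agent.H902

universe u v w

/-- the centre of a quasisimple group is a quotient of the Schur multiplier of the central quotient -/
theorem center_dvd_of_mult {Q : Type w} [Group Q] {A : Type v} [CommGroup A] (hA : HasSchurMultiplier Q A)
    {G : Type u} [Group G] [Finite G] (hG : IsQuasisimple G) (e : G ⧸ Subgroup.center G ≃* Q) :
    Nat.card (Subgroup.center G) ∣ Nat.card A := by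
  have hsm : Small.{w} G := Countable.toSmall G
  let m : Shrink.{w} G ≃* G := Shrink.mulEquiv
  have : Finite (Shrink.{w} G) := Finite.of_equiv G m.symm.toEquiv
  let σ : Shrink.{w} G →* Q := (e.toMonoidHom.comp (QuotientGroup.mk' (Subgroup.center G))).comp m.toMonoidHom
  have hker : ∀ x, x ∈ σ.ker ↔ m x ∈ Subgroup.center G := by
    intro x
    rw [MonoidHom.mem_ker]
    show e (QuotientGroup.mk' (Subgroup.center G) (m x)) = 1 ↔ _
    rw [← e.map_one, e.injective.eq_iff]
    exact QuotientGroup.eq_one_iff _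
  have hst : IsStemExtension σ := by
    refine ⟨?_, ?_, ?_⟩
    · exact (e.surjective.comp (QuotientGroup.mk'_surjective _)).comp m.surjective
    · intro x hx
      rw [hker] at hx
      rw [Subgroup.mem_center_iff] at hx ⊢
      intro g
      apply m.injective
      rw [map_mul, map_mul]
      exact hx (m g)
    · have h1 : commutator (Shrink.{w} G) = ⊤ := by
        have h2 : commutator G = ⊤ := hG.1.commutator_eq_top
        have h3 : (commutator G).map m.symm.toMonoidHom = commutator (Shrink.{w} G) := by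
          rw [map_commutator_eq]
          have : m.symm.toMonoidHom.range = ⊤ := MonoidHom.range_eq_top.2 m.symm.surjective
          rw [this]
          rfl
        rw [← h3, h2, ← MonoidHom.range_eq_map]
        exact MonoidHom.range_eq_top.2 m.symm.surjective
      rw [h1]
      exact le_top
  obtain ⟨π, hπ⟩ := hA.2 _ σ hst
  have h1 : Nat.card σ.ker ∣ Nat.card A := Subgroup.card_dvd_of_surjective π hπ
  have h2 : Nat.card σ.ker = Nat.card (Subgroup.center G) := by
    refine Nat.card_congr ⟨fun x => ⟨m x.1, (hker x.1).1 x.2⟩, fun y => ⟨m.symm y.1, (hker _).2 (by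
      rw [m.apply_symm_apply]; exact y.2)⟩, fun x => Subtype.ext (m.symm_apply_apply _),
      fun y => Subtype.ext (m.apply_symm_apply _)⟩
  rwa [h2] at h1

theorem dvd_of_prime {a b c p : ℕ} (hp : p.Prime) (ha : ¬ p ∣ a) {k : ℕ} (hb : b = p ^ k) (h : a ∣ b * c) : a ∣ c := by
  refine Nat.Coprime.dvd_of_dvd_mul_left ?_ h
  rw [hb]
  exact ((Nat.Prime.coprime_iff_not_dvd hp).2 ha).symm.pow_right k

theorem cyc {Q : Type w} [Group Q] {m : ℕ} (hA : HasCyclicSchurMultiplier Q m)
    {G : Type u} [Group G] [Finite G] (hG : IsQuasisimple G) (e : G ⧸ Subgroup.center G ≃* Q) :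
    Nat.card (Subgroup.center G) ∣ m := by
  have h := center_dvd_of_mult hA hG e
  have h2 : Nat.card (Multiplicative (ZMod m)) = m := by
    rw [Nat.card_congr Multiplicative.toAdd, Nat.card_zmod]
  rwa [h2] at h

theorem eq_of_pow {p g r k : ℕ} (hp : p.Prime) (hr : r.Prime) (_hk : k ≠ 0) (hg : g ≠ 0) (h : p ^ g = r ^ k) : p = r := by
  have h1 : p ∣ r ^ k := by rw [← h]; exact dvd_pow_self p hg
  exact (Nat.prime_dvd_prime_iff_eq hp hr).1 (hp.dvd_of_dvd_pow h1)

/-- **DM16**, the exceptional groups of Lie type -/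
theorem center_dvd_exc {G : Type u} [Group G] [Finite G] (hG : IsQuasisimple G) {n : OrdDiv.Grp} {Y : Art.Sh} {p g : ℕ}
    (hY : ¬ H700.DM.IsCl Y) (hn : Names.IsLie n Y p g) (hr : OrdDiv.Real n (G ⧸ Subgroup.center G))
    (hc : Art.Real Y p g (Nat.card (G ⧸ Subgroup.center G))) (hp : ¬ p ∣ Nat.card (Subgroup.center G)) :
    Nat.card (Subgroup.center G) ∣ Art.dd Y (p ^ g) := by
  have hg0 : g ≠ 0 := by have := hc.hf; omega
  have hpp := hc.hp
  cases hn with
  | psl => exact absurd trivial hY
  | psp => exact absurd trivial hY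
  | oodd => exact absurd trivial hY
  | psu => exact absurd trivial hY
  | oplus => exact absurd trivial hY
  | ominus => exact absurd trivial hY
  | g2 =>
    obtain ⟨F, _, _, hF, ⟨e⟩⟩ := hr
    have h3 : 3 ≤ p ^ g := hc.ok
    change _ ∣ 1
    rcases h3.eq_or_lt with h | h
    · have hp3 : p = 3 := eq_of_pow hpp Nat.prime_three one_ne_zero hg0 (by rw [← h, pow_one])
      exact dvd_of_prime hpp hp (k := 1) (b := 3) (by rw [hp3, pow_one])
        (by rw [mul_one]; exact cyc (S2101.result (F := F) (by rw [hF, ← h])) hG e)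
    · rcases (Nat.succ_le_of_lt h).eq_or_lt with h' | h'
      · have hp2 : p = 2 := eq_of_pow hpp Nat.prime_two two_ne_zero hg0 (by rw [← h']; rfl)
        exact dvd_of_prime hpp hp (k := 1) (b := 2) (by rw [hp2, pow_one])
          (by rw [mul_one]; exact cyc (S2102.result (F := F) (by rw [hF, ← h'])) hG e)
      · exact cyc (S2100.result (F := F) (by rw [hF]; omega)) hG e
  | f4 =>
    obtain ⟨F, _, _, hF, ⟨e⟩⟩ := hr
    change _ ∣ 1
    have h2 : 2 ≤ Fintype.card F := Fintype.one_lt_card
    rcases h2.eq_or_lt with h | h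
    · have hp2 : p = 2 := eq_of_pow hpp Nat.prime_two one_ne_zero hg0 (by rw [← hF, ← h, pow_one])
      exact dvd_of_prime hpp hp (k := 1) (b := 2) (by rw [hp2, pow_one])
        (by rw [mul_one]; exact cyc (S2104.result (F := F) h.symm) hG e)
    · exact cyc (S2103.result (F := F) h) hG e
  | e6 =>
    obtain ⟨F, _, _, hF, ⟨e⟩⟩ := hr
    exact cyc (S2105.result (F := F) hF) hG e
  | e7 =>
    obtain ⟨F, _, _, hF, ⟨e⟩⟩ := hr
    exact cyc (S2106.result (F := F) hF) hG e
  | e8 =>
    obtain ⟨F, _, _, hF, ⟨e⟩⟩ := hr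
    exact cyc (S2107.result (F := F)) hG e
  | te6 =>
    obtain ⟨F, _, _, hF, ⟨e⟩⟩ := hr
    have hq : IsPrimePow (p ^ g) := hpp.isPrimePow.pow hg0
    by_cases h2 : p ^ g = 2
    · have hp2 : p = 2 := eq_of_pow hpp Nat.prime_two one_ne_zero hg0 (by rw [h2, pow_one])
      rw [h2] at hF e ⊢
      change _ ∣ 3
      refine dvd_of_prime hpp hp (k := 2) (b := 4) (by rw [hp2]; rfl) ?_
      have h := center_dvd_of_mult (S2109.result (K := F) hF) hG e
      have hA : Nat.card (Multiplicative (ZMod 3 × ZMod 2 × ZMod 2)) = 4 * 3 := by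
        rw [Nat.card_congr Multiplicative.toAdd, Nat.card_prod, Nat.card_prod, Nat.card_zmod, Nat.card_zmod]
      rwa [hA] at h
    · exact cyc (S2108.result (K := F) hq hF h2) hG e
  | td4 =>
    obtain ⟨F, _, _, hF, ⟨e⟩⟩ := hr
    exact cyc (S2110.result (K := F) (hpp.isPrimePow.pow hg0) hF) hG e
  | sz =>
    obtain ⟨F, _, _, m, hm, hF, hq, ⟨e⟩⟩ := hr
    change _ ∣ 1
    rcases hm.eq_or_lt with rfl | h
    · have hp2 : p = 2 := eq_of_pow hpp Nat.prime_two (by norm_num) hg0 hq
      refine dvd_of_prime hpp hp (k := 2) (b := 4) (by rw [hp2]; rfl) ?_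
      have h := center_dvd_of_mult (S2112.result (F := F) (by rw [hF, hq]; norm_num)) hG e
      have hA : Nat.card (Multiplicative (ZMod 2 × ZMod 2)) = 4 * 1 := by
        rw [Nat.card_congr Multiplicative.toAdd, Nat.card_prod, Nat.card_zmod]
      rwa [hA] at h
    · exact cyc (S2111.result (F := F) h (by rw [hF, hq])) hG e
  | ree =>
    obtain ⟨F, _, _, m, hm, hF, hq, ⟨e⟩⟩ := hr
    exact cyc (S2113.result (K := F) hm (by rw [hF, hq])) hG e
  | tf4 =>
    obtain ⟨F, _, _, m, hm, hF, hq, ⟨e⟩⟩ := hr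
    exact cyc (S2114.result (K := F) hm (by rw [hF, hq])) hG e

/-- **DM16**, the alternating groups -/
theorem center_dvd_alt {G : Type u} [Group G] [Finite G] (hG : IsQuasisimple G) {n : ℕ} (hn : 5 ≤ n)
    (e : G ⧸ Subgroup.center G ≃* ↥(alternatingGroup (Fin n))) :
    Nat.card (Subgroup.center G) ∣ 6 ∧ (n ≠ 6 → n ≠ 7 → Nat.card (Subgroup.center G) ∣ 2) := by
  have key : n ≠ 6 → n ≠ 7 → Nat.card (Subgroup.center G) ∣ 2 := by
    intro h6 h7
    have h1 : commutator G = ⊤ := hG.1.commutator_eq_top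
    have h := S0892.result n (by omega) h6 h7 (Subgroup.center G) le_rfl (by rw [h1]; exact le_top) e
    have h0 : 0 < Nat.card (Subgroup.center G) := Nat.card_pos
    have : Nat.card (Subgroup.center G) = 1 ∨ Nat.card (Subgroup.center G) = 2 := by omega
    rcases this with h | h
    · rw [h]; norm_num
    · rw [h]
  refine ⟨?_, key⟩
  by_cases h6 : n = 6
  · exact cyc (S2116.result n (Or.inl h6)) hG e
  · by_cases h7 : n = 7
    · exact cyc (S2116.result n (Or.inr h7)) hG e
    · exact (key h6 h7).trans (by norm_num)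

end Cfsg.Agent.H288.DM
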